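import Cfsg.Agent.BZ.X.Dih
import Cfsg.Agent.BZ.N2.O73
import Cfsg.Agent.BZ.X.T
import Cfsg.Agent.SmallSimple.OrderEight

/-!
# BZ, the cover `3.Ω₇(3)` at the prime two : two degrees of height zero (helper96)

`loc` : a local datum of order eight contains two involutions of type `2`; `eight` : the dihedral block; `o73T96`.
-/

set_option autoImplicit false
set_option maxRecDepth 100000
set_option synthInstance.maxSize 4000
set_option linter.unusedSectionVars false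

namespace Cfsg.Agent.BZ.C8

open Cfsg Cfsg.Lie Subgroup Cfsg.Agent.BZ.T Cfsg.Agent.BHZ.Spor Cfsg.Agent.MK.C3L.O Cfsg.Agent.TAB.Eng Cfsg.Agent.BZ.X.O7
open Cfsg.Agent.H64.O73Perm hiding ev_eq_one
open Cfsg.Agent.Fischer.Derived Cfsg.Agent.Fischer.O73 Cfsg.Agent.Fischer.Y322 Cfsg.Agent.Fischer.Y322Iso
open Cfsg.Agent.MK.S7.O7 (fin8 iso_H8)
open Cfsg.Agent.BZ.N2.O7N Cfsg.Agent.BZ.N2.O7L

namespace O96

/-- the centraliser has no block of defect two -/
theorem no_two {H G : Type} [Group H] [Finite H] [Group G] {π : H →* G} {M : Ideal AlgInt} (h : Cx π) (hM : IsPModular 2 M) {t : H}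
    (t2 : orderOf t = 2) (ct : Nat.card (centralizer ({π t} : Set G)) = 207360) {u v : G} (u1 : orderOf u = 10) (u2 : π t = u ^ 5)
    (u3 : Nat.card (centralizer ({u} : Set G)) = 40) (u4 : ∀ m : ℕ, m.Coprime 10 → IsConj u (u ^ m)) (v1 : orderOf v = 6)
    (v2 : π t = v ^ 3) (v3 : Nat.card (centralizer ({v} : Set G)) = 864) (v4 : IsConj v (v ^ 5)) {C : Subgroup H}
    (hC : C = centralizer {t}) {c : Set (IrrCharacter C)} (hc : IsPBlock M c) : blockDefect 2 c ≠ 2 := fun hd => by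
  subst hC
  have := Finite.of_surjective π h.surj
  have h6 : t ^ 2 = 1 := t2 ▸ pow_orderOf_eq_one t
  have h7 : π t ^ 2 = 1 := by rw [← map_pow, h6, map_one]
  have h8 := gd_of_coprime h.cen h7 (Nat.Coprime.of_dvd_right h.dv (by decide))
  let ρ : centralizer ({t} : Set H) →* centralizer ({π t} : Set G) := (π.comp (Subgroup.subtype _)).codRestrict _ fun s =>
    mem_centralizer_singleton_iff.2 (Commute.map (mem_centralizer_singleton_iff.1 s.2) π)
  have h9 : Cx ρ := by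
    refine ⟨fun g => ?_, fun z hz => mem_center_iff.2 fun g => Subtype.ext (h.comm (congrArg Subtype.val hz) g), ?_⟩
    · obtain ⟨s, hs⟩ := h.surj g
      exact ⟨⟨s, mem_centralizer_singleton_iff.2 (h8 t s rfl (hs ▸ (mem_centralizer_singleton_iff.1 g.2).symm)).symm⟩, Subtype.ext hs⟩
    · refine dvd_trans ?_ h.dv
      rw [← card_map_of_injective (subtype_injective _)]
      refine card_dvd_of_le ?_
      rintro _ ⟨z, hz, rfl⟩
      exact congrArg Subtype.val hz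
  have k1 : u ^ 10 = 1 := u1 ▸ pow_orderOf_eq_one u
  have k2 : v ^ 6 = 1 := v1 ▸ pow_orderOf_eq_one v
  have k3 : ∀ m, m % 2 = 1 → π t ^ m = π t := fun m hm => by rw [pow_eq_pow_mod m h7, hm, pow_one]
  let x : centralizer ({π t} : Set G) := ⟨u ^ 6, mem_centralizer_singleton_iff.2 (u2 ▸ Commute.pow_pow_self u 6 5)⟩
  let y : centralizer ({π t} : Set G) := ⟨v ^ 4, mem_centralizer_singleton_iff.2 (v2 ▸ Commute.pow_pow_self v 4 3)⟩
  have k4 : orderOf x = 5 := by rw [← orderOf_coe, orderOf_pow' u (by decide), u1]; rfl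
  have k5 : orderOf y = 3 := by rw [← orderOf_coe, orderOf_pow' v (by decide), v1]; rfl
  refine num h9 ct (t := ⟨t, mem_centralizer_singleton_iff.2 rfl⟩)
    (mem_center_iff.2 fun g => Subtype.ext (mem_centralizer_singleton_iff.1 g.2)) (by rw [← orderOf_coe, t2]) k4 (fun i hi => ?_)
    ((card_cen (u2 ▸ npow_mem_zpowers u 5) (npow_mem_zpowers u 6) ?_).trans u3) k5 ?_
    ((card_cen (v2 ▸ npow_mem_zpowers v 3) (npow_mem_zpowers v 4) ?_).trans v3) hM hc hd
  · refine conj_cen (m := 6 * i + 5) u2 rfl (u4 _ ?_) (k3 _ (by omega)) ?_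
    · exact Nat.Coprime.mul_right (m := 2) (n := 5) (Nat.coprime_two_right.2 (Nat.odd_iff.2 (by omega)))
        (Nat.prime_five.coprime_iff_not_dvd.2 (by omega)).symm
    · rw [pow_eq_pow_mod _ (k4 ▸ pow_orderOf_eq_one x), pow_eq_pow_mod i (k4 ▸ pow_orderOf_eq_one x), show (6 * i + 5) % 5 = i % 5 by omega]
  · change u = π t * u ^ 6
    rw [u2, ← pow_add, pow_succ, k1, one_mul]
  · refine conj_cen v2 rfl v4 (k3 5 rfl) (eq_inv_of_mul_eq_one_left ?_)
    rw [← pow_succ, show 5 + 1 = 3 * 2 from rfl, pow_mul, ← k5, pow_orderOf_eq_one, one_pow]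
  · change v = π t * v ^ 4
    rw [v2, ← pow_add, pow_succ, k2, one_mul]

theorem into2 {S : Type} [Group S] [Finite S] {E : Subgroup S} {g : S} (hp : IsPGroup 2 E) (hgD : ∀ d ∈ E, Commute d g)
    (hmax : ∀ P : Subgroup S, IsPGroup 2 P → E ≤ P → (∀ k ∈ P, Commute k g) → P ≤ E) {s t : S} (h2 : s ^ 2 = 1) (h3 : t ^ 2 = 1)
    (hs : Commute s g) (ht : Commute t g) (h : Commute s t) : ∃ c, c * s * c⁻¹ ∈ E ∧ c * t * c⁻¹ ∈ E := by
  have : Fact (Nat.Prime 2) := ⟨Nat.prime_two⟩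
  obtain ⟨R, rfl⟩ := syl hp hgD hmax
  obtain ⟨Q, hQ⟩ := ((isPGroup_zpowers (p := 2) (x := (⟨s, mem_centralizer_singleton_iff.2 hs⟩ : centralizer ({g} : Set S))) (k := 1)
    (Subtype.ext h2)).to_sup_of_normal_right' (isPGroup_zpowers (p := 2)
      (x := (⟨t, mem_centralizer_singleton_iff.2 ht⟩ : centralizer ({g} : Set S))) (k := 1) (Subtype.ext h3))
    (zpowers_le.2 (centralizer_le_normalizer _ ((H613.SubSys.centralizer_zpowers _).ge
      (mem_centralizer_singleton_iff.2 (Subtype.ext h)))))).exists_le_sylow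
  obtain ⟨c, rfl⟩ := MulAction.exists_smul_eq (centralizer ({g} : Set S)) Q R
  exact ⟨c, ⟨_, smul_mem_pointwise_smul _ (MulAut.conj c) _ (hQ (mem_sup_left (mem_zpowers _))), rfl⟩,
    _, smul_mem_pointwise_smul _ (MulAut.conj c) _ (hQ (mem_sup_right (mem_zpowers _))), rfl⟩

theorem comm_w {v w : List (Fin 8)} (h : trivW (v ++ w ++ v.reverse ++ w.reverse) = true) : Commute (ev x8 v) (ev x8 w) := by
  rwa [← triv_iff, ev_append, ev_append, ev_append, ev_reverse x8_liftable, ev_reverse x8_liftable, mul_inv_eq_one,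
    mul_inv_eq_iff_eq_mul] at h

theorem conj_w (c w : List (Fin 8)) : IsConj (ev x8 w) (ev x8 (c ++ w ++ c.reverse)) :=
  isConj_iff.2 ⟨ev x8 c, by rw [ev_append, ev_append, ev_reverse x8_liftable]⟩

theorem sq_of {s : H8} (h : IsConj (ev x8 [4, 0]) s) : s ^ 2 = 1 := by
  obtain ⟨c, rfl⟩ := isConj_iff.1 h
  rw [conj_pow, ← ev_rep, triv_iff.2 (by decide +kernel), mul_one, mul_inv_cancel]

/-- a four-group in the centraliser of an element of order five -/
theorem exists_four : ∃ s t, IsConj (ev x8 [4, 0]) s ∧ IsConj (ev x8 [4, 0]) t ∧ s ≠ t ∧ Commute s (ev x8 [1, 7, 6, 2]) ∧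
    Commute t (ev x8 [1, 7, 6, 2]) ∧ Commute s t := by
  refine ⟨_, _, conj_w [3, 2, 6, 7, 1, 2, 6, 3, 4, 5, 2, 1] _, conj_w [4, 3, 2, 6, 7, 1, 2, 6, 3, 4, 5, 2, 1] _, fun e => ?_,
    comm_w (by decide +kernel), comm_w (by decide +kernel), comm_w (by decide +kernel)⟩
  rw [← mul_inv_eq_one, ← ev_reverse x8_liftable, ← ev_append, triv_iff] at e
  exact absurd e (by decide +kernel)

/-- **the local data of order eight** -/
theorem loc {E : Subgroup H8} (hD : LocB 2 E) (h8 : 2 ^ 3 ∣ Nat.card E) (hr : ¬ RegTriv 2 E) :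
    ∃ s ∈ E, ∃ t ∈ E, IsConj (ev x8 [4, 0]) s ∧ IsConj (ev x8 [4, 0]) t ∧ s ≠ t := by
  have := fin8
  have : Fact (Nat.Prime 2) := ⟨Nat.prime_two⟩
  obtain ⟨y, hy, hy2, hyD⟩ := exists_central hD.pg (N := E) (fun e => by
    rw [e, card_bot] at h8
    exact absurd h8 (by decide)) le_rfl fun d hd u hu => E.mul_mem (E.mul_mem hd hu) (E.inv_mem hd)
  obtain ⟨y, rfl, h1⟩ := ext_pi.exists_lift y (n := 2) (by decide) (hy2 ▸ pow_orderOf_eq_one y)
  obtain ⟨g, hg, hgD, hmax⟩ := hD.syl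
  obtain ⟨g, rfl⟩ := ext_pi.surj g
  have h3 : Commute g y := ext_pi.good_of_pow (n := 2) (by decide) h1 g (hgD _ hy).symm
  have h2 : ¬ 2 ∣ orderOf g := fun e => by
    have h2 : g ^ (orderOf (pi g) * 3) = 1 :=
      (pow_mul _ _ _).trans (ext_pi.cube (ext_pi.mem_iff.2 ((map_pow pi g _).trans (pow_orderOf_eq_one _))))
    have := e.trans (orderOf_dvd_of_pow_eq_one h2)
    omega
  have h5 : orderOf y = 2 := orderOf_eq_prime h1 fun e => by
    rw [e, map_one, orderOf_one] at hy2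
    cases hy2
  have h6 : dat.ord (td.ty (g * y)) = orderOf g * 2 := by
    rw [← td.ord, h3.orderOf_mul_eq_mul_orderOf_of_coprime (h5 ▸ (Nat.prime_two.coprime_iff_not_dvd.2 h2).symm), h5]
  have h7 : dat.pwf (td.ty (g * y)) 2 = td.ty g := by
    rw [← td.pow, h3.mul_pow, h1, mul_one, TD.pow_coprime (Nat.prime_two.coprime_iff_not_dvd.2 h2)]
  have h9 : ∀ x : H8, (∀ d ∈ E, Commute d x) → 2 ^ 3 ∣ Nat.card (centralizer ({x} : Set H8)) := fun x h =>
    h8.trans (card_dvd_of_le fun d hd => mem_centralizer_singleton_iff.2 (h d hd))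
  obtain ⟨s35, s15, -, s41, -⟩ := sgs
  rcases N2.O7L.cas _ (td.lt (g * y)) (by omega) with e | e | e | e | e
  · rw [h6, Nat.mul_div_cancel _ two_pos, ← td.pow, h3.mul_pow, pow_orderOf_eq_one, one_mul,
      TD.pow_coprime (h5 ▸ (Nat.prime_two.coprime_iff_not_dvd.2 h2).symm)] at e
    exact absurd (hD.rt_of_constr hy hyD (constr e)) hr
  · have h10 := h9 (pi (g * y)) fun d hd => map_mul pi g y ▸ Commute.mul_right (hgD d hd) (hyD d hd).symm
    rw [(s35.spec e).2] at h10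
    exact absurd h10 (by decide)
  · obtain ⟨k, h10⟩ := isConj_iff.1 ((s15 _ e).spec h7.symm).1
    obtain ⟨s, t, k1, k2, k3, k4, k5, k6⟩ := exists_four
    have k7 : ∀ {s : H8} (c : H8), IsConj (ev x8 [4, 0]) s → IsConj (ev x8 [4, 0]) (c * s * c⁻¹) := fun c h =>
      h.trans (isConj_iff.2 ⟨c, rfl⟩)
    obtain ⟨c, h11, h12⟩ := into2 hD.pg hgD hmax (sq_of (k7 k k1)) (sq_of (k7 k k2)) (h10 ▸ (k4.map (MulAut.conj k) :))
      (h10 ▸ (k5.map (MulAut.conj k) :)) (k6.map (MulAut.conj k) :)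
    exact ⟨_, h11, _, h12, k7 c (k7 k k1), k7 c (k7 k k2), fun e => k3 (by simpa using e)⟩
  · have h10 := h9 _ hgD
    rw [((s41 _ e).spec h7.symm).2] at h10
    exact absurd h10 (by decide)
  · obtain ⟨f, -, r, -, h10, h11⟩ := N2.O7L.bad _ e
    rw [← (h10.spec h7.symm).2] at h11
    exact (h11.elim (fun h => hr (rb E hD (pow_dvd hD.pg hgD hmax h))) fun h => h ((by decide : 4 ∣ 2 ^ 3).trans (h9 _ hgD))).elim

/-- **the dihedral block** -/
theorem eight {K : Type} [Group K] [Finite K] {σ : K →* H8} {M : Ideal AlgInt} {B : Set (IrrCharacter K)} {D : Subgroup K}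
    (H : Hyp 2 M B D σ) (hc : Nat.card (center K) ∣ 3) (hr : ¬ RegTriv 2 (D.map σ)) : ¬ XT 2 K B := by
  have := fin8
  have : Fact (Nat.Prime 2) := ⟨Nat.prime_two⟩
  have := Blocks.Local.isPrime_of_isPModular H.hM
  have hX : Cx σ := ⟨H.surj, H.ker.le, H.ker ▸ hc⟩
  obtain ⟨_, ⟨s, s1, rfl⟩, _, ⟨t, t1, rfl⟩, s2, t2, h1⟩ := loc H.locB (H.ce.dvd_map H.cube_dvd) hr
  obtain ⟨n, hn⟩ := IsPGroup.iff_card.1 H.pg
  have h2 : Nat.card D = 8 := Nat.dvd_antisymm (hn ▸ pow_dvd_pow 2 (show n ≤ 3 from by_contra fun h =>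
    hr (rb _ H.locB (H.ce.dvd_map (hn ▸ pow_dvd_pow 2 (by omega)))))) H.cube_dvd
  obtain ⟨-, -, -, -, g2, g45, g26⟩ := sgs
  have h3 : ∀ s ∈ D, IsConj (ev x8 [4, 0]) (σ s) → orderOf s = 2 := fun s hs h => orderOf_eq_prime
    (pow_eq_one_iff_of_coprime (m := 4) (n := 3) (by decide) |>.1 ⟨by
      rw [← pow_mul, show 2 * 4 = 8 from rfl, ← h2]
      exact congrArg Subtype.val (pow_card_eq_one' (x := (⟨s, hs⟩ : D))), hX.cube ((map_pow σ s 2).trans (sq_of h))⟩) fun e => by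
    rw [e, map_one, isConj_one_left, triv_iff] at h
    exact absurd h (by decide +kernel)
  have h4 : s ≠ t := fun e => h1 (e ▸ rfl)
  rcases SmallSimple.OrderEight.dihedral_or_quaternion_of_card_eight h2 H.nab with ⟨⟨e⟩⟩ | ⟨⟨e⟩⟩
  · obtain ⟨f, hf⟩ := H649.exists_pair_of_isDefectGroup H.hM H.hB H.hD
    have hmax := H644.isMaximalBrauerPair_of_isDefectGroup H.hM hf H.hD
    obtain ⟨x, hx⟩ := H613.DihMain.exists_isDih (D := D) (j := 1) le_rfl e
    have h5 : ∀ s ∈ D, IsConj (ev x8 [4, 0]) (σ s) → s ∉ zpowers x → ¬ XT 2 K B := fun s hs h hsx => by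
      refine D8T.not_eqD (a := ⟨D, f⟩) H.hM hmax hx hs hsx ((D8T.fus_or (a := ⟨D, f⟩) H.hM hmax hx hs hsx).resolve_right ?_)
      obtain ⟨u, u1, u2⟩ := root_of (s := 45) (k := 5) (by decide) (by decide) g2 h
      obtain ⟨v, v1, v2⟩ := root_of (s := 26) (k := 3) (by decide) (by decide) g2 h
      have h9 : ∀ {w : Trip} {s c m : ℕ} {l : List (Fin 8)}, Sg s l c → td.ty w = s → m.Coprime (dat.ord s) →
          IsConj (pi w) (pi w ^ m) := fun {w _ _ m _} h e hm =>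
        map_pow MK.C3L.O.pi w m ▸ (h.spec e).1.symm.trans (h.spec ((TD.pow_coprime (by rwa [td.ord, e])).trans e)).1
      exact no_two hX H.hM (h3 s hs h) (by rw [← u2, ← map_pow]; exact (g2.spec (by rw [td.pow, u1]; decide)).2)
        (ord_pi u1 (by decide) (by decide)) u2.symm (g45.spec u1).2 (fun m hm => h9 g45 u1 hm)
        (ord_pi v1 (by decide) (by decide)) v2.symm (g26.spec v1).2 (h9 g26 v1 (by decide))
        (H613.SubFus.isSubsec_bel (a := ⟨D, f⟩) H.hM hmax hs).centralizer_eq (H613.SubFus.isPBlock_bel (a := ⟨D, f⟩) H.hM hmax.1.1 hs)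
    have h6 : ∀ s, orderOf s = 2 → s ∈ zpowers x → s = x ^ 2 ^ 1 := fun s h hs =>
      (hx.eq_of_sq hs (by rw [← pow_two, ← h, pow_orderOf_eq_one])).resolve_left fun e => by
        rw [e, orderOf_one] at h
        cases h
    by_cases h7 : s ∈ zpowers x
    · exact h5 t t1 t2 fun h8 => h4 ((h6 s (h3 s s1 s2) h7).trans (h6 t (h3 t t1 t2) h8).symm)
    · exact h5 s s1 s2 h7
  · have h5 : ∀ a b : QuaternionGroup 2, a ^ 2 = 1 → a ≠ 1 → b ^ 2 = 1 → b ≠ 1 → a = b := by decide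
    have h6 : ∀ s (hs : s ∈ D), orderOf s = 2 → e ⟨s, hs⟩ ^ 2 = 1 ∧ e ⟨s, hs⟩ ≠ 1 := fun s hs h =>
      orderOf_eq_prime_iff.1 ((e.orderOf_eq _).trans ((orderOf_coe _).symm.trans h))
    exact absurd (congrArg Subtype.val (e.injective (h5 _ _ (h6 s s1 (h3 s s1 s2)).1 (h6 s s1 (h3 s s1 s2)).2
      (h6 t t1 (h3 t t1 t2)).1 (h6 t t1 (h3 t t1 t2)).2))) h4

end O96

/-- **`3.Ω₇(3)`, `p = 2`** -/
theorem o73T96 (F : Type) [Field F] [Fintype F] (hF : Fintype.card F = 3) : Cov XT 3 2 (POmega F (quadFormOdd 3 F)) := by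
  have : Fact (Nat.Prime 2) := ⟨Nat.prime_two⟩
  have : Fact (Nat.Prime 3) := ⟨Nat.prime_three⟩
  obtain ⟨e⟩ := iso_H8 F hF
  refine Cov.of_equiv e fun K _ _ σ M B D H hc => ?_
  by_cases hr : RegTriv 2 (D.map σ)
  · obtain ⟨_, rfl, h3⟩ := (X.T2.dg_st (X.T2.lie_oo F hF)).congr e.symm K σ H.qs H.surj H.ker hc
    obtain ⟨m, ⟨h4, h5⟩, h6⟩ := (X.T2.dg_two (p := 2) (X.T2.lie_oo F hF) (by decide)
      (Nat.card_congr e.toEquiv ▸ (dvd_pow_self 2 three_ne_zero).trans H.cube)).congr e.symm K σ H.qs H.surj H.ker hc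
    exact h6.xt h3 H hr h4 (fun h => absurd (Nat.prime_two.dvd_of_dvd_pow h) (by decide)) h5
  · exact O96.eight H hc.dvd hr

end Cfsg.Agent.BZ.C8
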